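import Groth.Agent.L27.TopInv.Sections

/-!
Descent of maps to an etale scheme along a morphism that is a quotient map over it.
-/

universe u

open CategoryTheory CategoryTheory.Limits AlgebraicGeometry

set_option backward.isDefEq.respectTransparency.types false

namespace Groth.L24.Desc

open Groth.L27.TopInv

/-- Maps to an etale scheme descend along a morphism submersive over the scheme. -/
theorem existsUnique_descend_of_isQuotientMap {X Z X' : Scheme.{u}} (π : Z ⟶ X) [Etale π] (h : X' ⟶ X)
    [Surjective h] (hq : Topology.IsQuotientMap (pullback.fst π h).base) (φ : X' ⟶ Z) (hφ : φ ≫ π = h)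
    (hc : pullback.fst h h ≫ φ = pullback.snd h h ≫ φ) :
    ∃! s : X ⟶ Z, s ≫ π = 𝟙 X ∧ h ≫ s = φ := by
  let pr := pullback.fst π h
  let σ : X' ⟶ pullback π h := pullback.lift φ (𝟙 X') (by rw [hφ, Category.id_comp])
  have := isOpenImmersion_section (pullback.snd π h) σ (pullback.lift_snd _ _ _)
  have hpre : pr.base ⁻¹' Set.range φ.base = Set.range σ.base := by
    refine le_antisymm ?_ ?_
    · rintro z ⟨a, ha⟩
      obtain ⟨v, -, hv⟩ := Scheme.Pullback.exists_preimage_pullback (f := φ) (g := pr) a z ha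
      let c : pullback φ pr ⟶ pullback h h :=
        pullback.lift (pullback.fst φ pr) (pullback.snd φ pr ≫ pullback.snd π h) (by
          rw [Category.assoc, ← pullback.condition, ← pullback.condition_assoc, hφ])
      have e : pullback.snd φ pr = c ≫ pullback.snd h h ≫ σ := by
        apply pullback.hom_ext
        · simp only [Category.assoc, σ, pullback.lift_fst]
          rw [← hc, pullback.lift_fst_assoc]
          exact pullback.condition.symm
        · simp only [Category.assoc, σ, pullback.lift_snd, Category.comp_id, c]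
      rw [e, Scheme.Hom.comp_apply, Scheme.Hom.comp_apply] at hv
      exact ⟨_, hv⟩
    · rintro z ⟨a, rfl⟩
      refine ⟨a, ?_⟩
      rw [← Scheme.Hom.comp_apply, pullback.lift_fst]
  let Γ : Z.Opens := ⟨Set.range φ.base,
    hq.isOpen_preimage.1 (hpre ▸ σ.isOpenEmbedding.isOpen_range)⟩
  have hr : Set.range φ.base ⊆ Set.range Γ.ι.base := by rw [Scheme.Opens.range_ι]; rfl
  let φ' : X' ⟶ Γ := IsOpenImmersion.lift Γ.ι φ hr
  have hφ' : φ' ≫ Γ.ι = φ := IsOpenImmersion.lift_fac _ _ _
  have : Surjective φ' := ⟨fun z => by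
    obtain ⟨a, ha⟩ : z.1 ∈ Set.range φ.base := z.2
    refine ⟨a, Subtype.ext ?_⟩
    exact (congrArg (fun m : X' ⟶ Z => m.base a) hφ').trans ha⟩
  have hw : φ' ≫ Γ.ι ≫ π = h := by rw [← Category.assoc, hφ', hφ]
  have : Surjective (Γ.ι ≫ π) := by
    have : Surjective (φ' ≫ Γ.ι ≫ π) := hw ▸ inferInstance
    exact Surjective.of_comp φ' _
  have : UniversallyInjective (Γ.ι ≫ π) := by
    rw [UniversallyInjective.iff_diagonal]
    let ψ : pullback h h ⟶ pullback.diagonalObj (Γ.ι ≫ π) :=
      pullback.map h h (Γ.ι ≫ π) (Γ.ι ≫ π) φ' φ' (𝟙 X) (by simp [hw]) (by simp [hw])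
    have : Surjective ψ := MorphismProperty.pullbackMap (P := @Surjective) ‹Surjective φ'› ‹Surjective φ'› hw.symm hw.symm
    have e : ψ = (pullback.fst h h ≫ φ') ≫ pullback.diagonal (Γ.ι ≫ π) := by
      apply pullback.hom_ext
      · rw [Category.assoc, pullback.diagonal_fst, Category.comp_id]
        exact pullback.lift_fst _ _ _
      · rw [Category.assoc, pullback.diagonal_snd, Category.comp_id]
        refine (pullback.lift_snd _ _ _).trans ?_
        rw [← cancel_mono Γ.ι, Category.assoc, Category.assoc, hφ', hc]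
    have : Surjective ((pullback.fst h h ≫ φ') ≫ pullback.diagonal (Γ.ι ≫ π)) := e ▸ inferInstance
    exact Surjective.of_comp (pullback.fst h h ≫ φ') _
  have := isOpenImmersion_of_etale_univInjective (Γ.ι ≫ π)
  have : IsIso (Γ.ι ≫ π) :=
    (isIso_iff_isOpenImmersion_and_surjective _).2 ⟨inferInstance, inferInstance⟩
  have hs : h ≫ inv (Γ.ι ≫ π) ≫ Γ.ι = φ := by
    rw [← hw]
    simp only [Category.assoc]
    rw [← Category.assoc Γ.ι π, IsIso.hom_inv_id_assoc, hφ']
  refine ⟨inv (Γ.ι ≫ π) ≫ Γ.ι, ⟨by simp, hs⟩, ?_⟩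
  rintro s ⟨hs1, hs2⟩
  exact eq_of_surjective π h (by rw [hs1]; simp) (hs2.trans hs.symm)

end Groth.L24.Desc
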