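import Groth.Agent.L16.RatMapExt
import Groth.Agent.L19.SpreadLfp
import Groth.Agent.L19.Closure
import Mathlib.AlgebraicGeometry.IdealSheaf.Functorial
import Groth.Agent.L18.KerReduced

/-!
Morphisms agreeing on all local schemes; gluing a morphism near a closed point.
-/

set_option autoImplicit false
set_option backward.isDefEq.respectTransparency.types false

universe u

open CategoryTheory CategoryTheory.Limits AlgebraicGeometry TopologicalSpace

namespace Groth.L24.PointGlue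

variable {X Y S : Scheme.{u}}

theorem ext_of_isAffine_of_stalk {W V : Scheme.{u}} [IsAffine V] (h₁ h₂ : W ⟶ V)
    (h : ∀ z, W.fromSpecStalk z ≫ h₁ = W.fromSpecStalk z ≫ h₂) : h₁ = h₂ := by
  refine ext_of_isAffine ?_
  ext r
  refine W.IsSheaf.section_ext fun z _ => ?_
  have e := congrArg (fun k => k.appTop) (h z)
  rw [Scheme.Hom.comp_appTop, Scheme.Hom.comp_appTop, Scheme.fromSpecStalk_appTop] at e
  have e' : h₁.appTop ≫ W.presheaf.germ ⊤ z trivial = h₂.appTop ≫ W.presheaf.germ ⊤ z trivial := by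
    have := congrArg (fun k => k ≫ (Scheme.ΓSpecIso (W.presheaf.stalk z)).hom) e
    simpa using this
  obtain ⟨U, hzU, i, i', hU⟩ := W.presheaf.germ_eq (U := ⊤) (V := ⊤) z trivial trivial (h₁.appTop r) (h₂.appTop r)
    (congrArg (fun k => k.hom r) e')
  exact ⟨U, i.le, hzU, hU⟩

theorem ext_of_stalk (g₁ g₂ : X ⟶ Y) (h : ∀ z, X.fromSpecStalk z ≫ g₁ = X.fromSpecStalk z ≫ g₂) :
    g₁ = g₂ := by
  have hpt : ∀ z, g₁ z = g₂ z := fun z => by
    have := congr($(h z) (IsLocalRing.closedPoint (X.presheaf.stalk z)))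
    change g₁ (X.fromSpecStalk z _) = g₂ (X.fromSpecStalk z _) at this
    rwa [Scheme.fromSpecStalk_closedPoint] at this
  refine Scheme.hom_ext_of_forall _ _ fun x => ?_
  obtain ⟨V, hV, hxV, -⟩ := exists_isAffineOpen_mem_and_subset (x := g₁ x) (U := ⊤) trivial
  obtain ⟨W, -, hxW, hWV⟩ := exists_isAffineOpen_mem_and_subset (x := x) (U := g₁ ⁻¹ᵁ V ⊓ g₂ ⁻¹ᵁ V)
    ⟨hxV, show g₂ x ∈ V from hpt x ▸ hxV⟩
  haveI : IsAffine V.toScheme := hV
  have r₁ : Set.range (W.ι ≫ g₁) ⊆ Set.range V.ι := by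
    rintro _ ⟨w, rfl⟩; rw [Scheme.Opens.range_ι]; exact (hWV w.2).1
  have r₂ : Set.range (W.ι ≫ g₂) ⊆ Set.range V.ι := by
    rintro _ ⟨w, rfl⟩; rw [Scheme.Opens.range_ι]; exact (hWV w.2).2
  refine ⟨W, hxW, ?_⟩
  rw [← IsOpenImmersion.lift_fac V.ι _ r₁, ← IsOpenImmersion.lift_fac V.ι _ r₂]
  congr 1
  refine ext_of_isAffine_of_stalk _ _ fun z => ?_
  rw [← cancel_mono V.ι, Category.assoc, Category.assoc, IsOpenImmersion.lift_fac, IsOpenImmersion.lift_fac,
    ← Scheme.SpecMap_stalkMap_fromSpecStalk_assoc W.ι, ← Scheme.SpecMap_stalkMap_fromSpecStalk_assoc W.ι, h]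

variable (p : X ⟶ S) (q : Y ⟶ S)

/-- Two morphisms from opens around `x` agree on the overlap near `x` if they agree on the punctured local scheme. -/
theorem exists_agree_nhd [LocallyOfFiniteType q] {x : X} {U W : X.Opens} (hW : IsAffineOpen W) (hxW : x ∈ W)
    (hqc : IsCompact ((U ⊓ W : X.Opens) : Set X)) (a : (U : Scheme.{u}) ⟶ Y) (f : (W : Scheme.{u}) ⟶ Y)
    (ha : a ≫ q = U.ι ≫ p) (hf : f ≫ q = W.ι ≫ p)
    (h : ((X.fromSpecStalk x) ⁻¹ᵁ U).ι ≫ W.fromSpecStalkOfMem x hxW ≫ f = ((X.fromSpecStalk x) ∣_ U) ≫ a) :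
    ∃ N : X.Opens, x ∈ N ∧ N ≤ W ∧
      ∀ {Z : Scheme.{u}} (i : Z ⟶ U) (j : Z ⟶ W), i ≫ U.ι = j ≫ W.ι → (∀ z, (j ≫ W.ι) z ∈ N) → i ≫ a = j ≫ f := by
  let T := U ⊓ W
  let u : (T : Scheme.{u}) ⟶ U := X.homOfLE inf_le_left
  let w : (T : Scheme.{u}) ⟶ W := X.homOfLE inf_le_right
  have hu : u ≫ U.ι = T.ι := X.homOfLE_ι _
  have hw : w ≫ W.ι = T.ι := X.homOfLE_ι _
  let E : T.toScheme.Opens := ⨆ O : {O : T.toScheme.Opens // O.ι ≫ u ≫ a = O.ι ≫ w ≫ f}, O.1
  have hgen : ∀ z : T.toScheme, T.ι z ⤳ x → z ∈ E := by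
    intro z hz
    let F := T.toScheme.fromSpecStalk z
    let k : Spec (T.toScheme.presheaf.stalk z) ⟶ Spec (X.presheaf.stalk x) :=
      Spec.map (T.ι.stalkMap z) ≫ Spec.map (X.presheaf.stalkSpecializes hz)
    have hk : k ≫ X.fromSpecStalk x = F ≫ T.ι := by
      rw [Category.assoc, Scheme.SpecMap_stalkSpecializes_fromSpecStalk]
      exact Scheme.SpecMap_stalkMap_fromSpecStalk _
    have hr : Set.range k ⊆ Set.range ((X.fromSpecStalk x) ⁻¹ᵁ U).ι := by
      rintro _ ⟨t, rfl⟩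
      rw [Scheme.Opens.range_ι]
      show X.fromSpecStalk x (k t) ∈ U
      rw [← Scheme.Hom.comp_apply, hk]
      exact (F t).2.1
    have h' := congrArg (fun m => IsOpenImmersion.lift _ k hr ≫ m) h
    have e₁ : IsOpenImmersion.lift _ k hr ≫ ((X.fromSpecStalk x) ∣_ U) = F ≫ u := by
      rw [← cancel_mono U.ι, Category.assoc, morphismRestrict_ι, IsOpenImmersion.lift_fac_assoc, hk,
        Category.assoc, hu]
    have e₂ : k ≫ W.fromSpecStalkOfMem x hxW = F ≫ w := by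
      rw [← cancel_mono W.ι, Category.assoc, Scheme.Opens.fromSpecStalkOfMem_ι, hk, Category.assoc, hw]
    simp only [IsOpenImmersion.lift_fac_assoc, reassoc_of% e₁, reassoc_of% e₂] at h'
    obtain ⟨O, hzO, hO⟩ := Groth.L16.spread_out_unique_of_locallyOfFiniteType (T.ι ≫ p) q (u ≫ a) (w ≫ f)
      (by rw [Category.assoc, ha, reassoc_of% hu]) (by rw [Category.assoc, hf, reassoc_of% hw]) z h'.symm
    exact Opens.mem_iSup.2 ⟨⟨O, hO⟩, hzO⟩
  have hE : E.ι ≫ u ≫ a = E.ι ≫ w ≫ f := by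
    refine Scheme.hom_ext_of_forall _ _ fun z => ?_
    obtain ⟨⟨O, hO⟩, hzO⟩ := Opens.mem_iSup.1 z.2
    refine ⟨E.ι ⁻¹ᵁ O, hzO, ?_⟩
    have := congrArg (fun m => (E.ι ∣_ O) ≫ m) hO
    simpa only [morphismRestrict_ι_assoc] using this
  let C : Closeds T.toScheme := ⟨(E : Set T.toScheme)ᶜ, E.isOpen.isClosed_compl⟩
  let J := Scheme.IdealSheafData.vanishingIdeal C
  haveI : CompactSpace T.toScheme := isCompact_iff_compactSpace.1 hqc
  haveI : CompactSpace J.subscheme := QuasiCompact.compactSpace_of_compactSpace J.subschemeι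
  haveI : IsAffine W.toScheme := hW
  have hx : (⟨x, hxW⟩ : W) ∉ closure (Set.range (J.subschemeι ≫ w)) := fun hmem => by
    obtain ⟨c, hc⟩ := Groth.L19.exists_specializes_of_mem_closure_range _ hmem
    have hcC : J.subschemeι c ∈ (C : Set T.toScheme) := by
      have : J.subschemeι c ∈ Set.range J.subschemeι := ⟨c, rfl⟩
      rwa [Scheme.IdealSheafData.range_subschemeι] at this
    refine hcC (hgen _ ?_)
    have := hc.map W.ι.continuous
    rwa [← Scheme.Hom.comp_apply, Category.assoc, hw] at this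
  let N₀ : W.toScheme.Opens := ⟨(closure (Set.range (J.subschemeι ≫ w)))ᶜ, isClosed_closure.isOpen_compl⟩
  refine ⟨W.ι ''ᵁ N₀, ⟨⟨x, hxW⟩, hx, rfl⟩, W.ι_image_le N₀, fun {Z} i j hij hN => ?_⟩
  have hrT : Set.range (i ≫ U.ι) ⊆ Set.range T.ι := by
    rintro _ ⟨z, rfl⟩
    rw [Scheme.Opens.range_ι]
    exact ⟨(i z).2, hij ▸ (j z).2⟩
  let l : Z ⟶ T := IsOpenImmersion.lift T.ι (i ≫ U.ι) hrT
  have hli : l ≫ u = i := by rw [← cancel_mono U.ι, Category.assoc, hu, IsOpenImmersion.lift_fac]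
  have hlj : l ≫ w = j := by rw [← cancel_mono W.ι, Category.assoc, hw, IsOpenImmersion.lift_fac, hij]
  have hlE : Set.range l ⊆ Set.range E.ι := by
    rintro _ ⟨z, rfl⟩
    rw [Scheme.Opens.range_ι]
    by_contra hzE
    obtain ⟨n, hn, hn'⟩ := hN z
    refine hn (subset_closure ?_)
    obtain ⟨c, hc⟩ : l z ∈ Set.range J.subschemeι := by
      rw [Scheme.IdealSheafData.range_subschemeι]; exact hzE
    refine ⟨c, W.ι.isOpenEmbedding.injective ?_⟩
    rw [Scheme.Hom.comp_apply, hc, ← Scheme.Hom.comp_apply, ← Scheme.Hom.comp_apply, reassoc_of% hlj]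
    exact hn'.symm
  have := congrArg (fun m => IsOpenImmersion.lift E.ι l hlE ≫ m) hE
  simpa only [IsOpenImmersion.lift_fac_assoc, reassoc_of% hli, reassoc_of% hlj] using this

end Groth.L24.PointGlue
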